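import Groth.Agent.S1489
import Mathlib.AlgebraicGeometry.IdealSheaf.Functorial
import Mathlib.RingTheory.Smooth.Basic

/-!
# Infinitesimal lifting against first order thickenings: formal properties and gluing
-/

universe u

namespace GrothLib.FormalLift

open AlgebraicGeometry CategoryTheory Limits

variable {X Y Z : Scheme.{u}}

theorem surjective_specMap_quotient {A : Type u} [CommRing A] {I : Ideal A} (hI : I ^ 2 = ⊥) :
    Surjective (Spec.map (CommRingCat.ofHom (Ideal.Quotient.mk I))) := by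
  refine ⟨fun x ↦ ?_⟩
  have hle : I ≤ x.asIdeal := fun y hy ↦ x.isPrime.mem_of_pow_mem 2
    (show y ^ 2 ∈ x.asIdeal by
      have : y ^ 2 ∈ I ^ 2 := Ideal.pow_mem_pow hy 2
      rw [hI] at this
      simp [(Submodule.mem_bot A).mp this])
  have : x ∈ Set.range (PrimeSpectrum.comap (Ideal.Quotient.mk I)) := by
    rw [range_comap_of_surjective _ _ Ideal.Quotient.mk_surjective, Ideal.mk_ker]
    exact hle
  exact this

theorem range_subset_of_surjective {T T' W : Scheme.{u}} (t : T ⟶ T') [Surjective t] {a : T ⟶ W}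
    {l : T' ⟶ W} (h : t ≫ l = a) {S : Set W} (ha : Set.range a ⊆ S) : Set.range l ⊆ S := by
  rintro _ ⟨x, rfl⟩
  obtain ⟨z, rfl⟩ := t.surjective x
  exact ha ⟨z, by rw [← h]; rfl⟩

theorem smooth_comp (f : X ⟶ Y) (g : Y ⟶ Z) (hf : MoreMor.IsFormallySmoothHom f)
    (hg : MoreMor.IsFormallySmoothHom g) : MoreMor.IsFormallySmoothHom (f ≫ g) := by
  intro A _ I hI a b w
  obtain ⟨m, hm, hmb⟩ := hg A I hI (a ≫ f) b (by rw [w, Category.assoc])
  obtain ⟨l, hl, hlf⟩ := hf A I hI a m hm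
  exact ⟨l, hl, by rw [reassoc_of% hlf, hmb]⟩

theorem etale_comp (f : X ⟶ Y) (g : Y ⟶ Z) (hf : MoreMor.IsFormallyEtaleHom f)
    (hg : MoreMor.IsFormallyEtaleHom g) : MoreMor.IsFormallyEtaleHom (f ≫ g) := by
  intro A _ I hI a b w
  obtain ⟨m, ⟨hm, hmb⟩, hu⟩ := hg A I hI (a ≫ f) b (by rw [w, Category.assoc])
  obtain ⟨l, ⟨hl, hlf⟩, hu'⟩ := hf A I hI a m hm
  refine ⟨l, ⟨hl, by rw [reassoc_of% hlf, hmb]⟩, fun n ⟨hn, hnb⟩ => hu' n ⟨hn, ?_⟩⟩
  exact hu (n ≫ f) ⟨by rw [reassoc_of% hn], by rw [Category.assoc, hnb]⟩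

theorem etale_baseChange {X' S S' : Scheme.{u}} {f : X ⟶ S} {g : S' ⟶ S} {g' : X' ⟶ X} {f' : X' ⟶ S'}
    (hsq : IsPullback g' f' f g) (hf : MoreMor.IsFormallyEtaleHom f) :
    MoreMor.IsFormallyEtaleHom f' := by
  intro A _ I hI a b w
  obtain ⟨m, ⟨hm, hmb⟩, hu⟩ := hf A I hI (a ≫ g') (b ≫ g)
    (by rw [reassoc_of% w, Category.assoc, hsq.w])
  refine ⟨hsq.lift m b hmb, ⟨?_, hsq.lift_snd _ _ _⟩, fun n ⟨hn, hnb⟩ => ?_⟩
  · refine hsq.hom_ext ?_ ?_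
    · rw [Category.assoc, hsq.lift_fst, hm]
    · rw [Category.assoc, hsq.lift_snd, w]
  · refine hsq.hom_ext ?_ ?_
    · rw [hsq.lift_fst]
      exact hu _ ⟨by rw [reassoc_of% hn], by rw [Category.assoc, hsq.w, reassoc_of% hnb]⟩
    · rw [hsq.lift_snd, hnb]

theorem smooth_restrict {U V S : Scheme.{u}} (f : X ⟶ S) (j : U ⟶ X) (k : V ⟶ S)
    [IsOpenImmersion j] [Mono k] (g : U ⟶ V) (hg : g ≫ k = j ≫ f)
    (H : MoreMor.IsFormallySmoothHom f) : MoreMor.IsFormallySmoothHom g := by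
  intro A _ I hI a b w
  haveI := surjective_specMap_quotient hI
  obtain ⟨l, hl, hlf⟩ := H A I hI (a ≫ j) (b ≫ k) (by rw [reassoc_of% w, Category.assoc, hg])
  have hr : Set.range l ⊆ Set.range j := range_subset_of_surjective _ hl (by
    rintro _ ⟨z, rfl⟩; exact ⟨a z, rfl⟩)
  refine ⟨IsOpenImmersion.lift j l hr, ?_, ?_⟩
  · rw [← cancel_mono j, Category.assoc, IsOpenImmersion.lift_fac, hl]
  · rw [← cancel_mono k, Category.assoc, hg, IsOpenImmersion.lift_fac_assoc, hlf]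

/-- The ring map is formally smooth if the morphism of spectra has the lifting property. -/
theorem formallySmooth_of_lift {R B : CommRingCat.{u}} (φ : R ⟶ B)
    (H : MoreMor.IsFormallySmoothHom (Spec.map φ)) : φ.hom.FormallySmooth := by
  algebraize [φ.hom]
  rw [RingHom.FormallySmooth, Algebra.FormallySmooth.iff_comp_surjective]
  intro C _ _ I hI g
  obtain ⟨l, hl, hlf⟩ := H C I hI (Spec.map (CommRingCat.ofHom g.toRingHom))
    (Spec.map (CommRingCat.ofHom (algebraMap R C))) (by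
      rw [← Spec.map_comp, ← Spec.map_comp]
      congr 1
      ext r
      exact (g.commutes r).symm)
  obtain ⟨ψ, rfl⟩ := Spec.map_surjective l
  rw [← Spec.map_comp] at hl hlf
  replace hl := Spec.map_injective hl
  replace hlf := Spec.map_injective hlf
  exact ⟨⟨ψ.hom, fun r ↦ congr($(hlf) r)⟩, AlgHom.ext fun x ↦ congr($(hl) x)⟩

/-- A formally étale ring map gives unique lifting. -/
theorem isFormallyEtaleHom_specMap {R B : CommRingCat.{u}} (φ : R ⟶ B) (h : φ.hom.FormallyEtale) :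
    MoreMor.IsFormallyEtaleHom (Spec.map φ) := by
  algebraize [φ.hom]
  intro A _ I hI a b w
  obtain ⟨α, rfl⟩ := Spec.map_surjective a
  obtain ⟨β, rfl⟩ := Spec.map_surjective b
  rw [← Spec.map_comp, ← Spec.map_comp] at w
  replace w := Spec.map_injective w
  letI : Algebra R A := β.hom.toAlgebra
  let g : B →ₐ[R] A ⧸ I := ⟨α.hom, fun r => (congr($(w).hom r)).symm⟩
  have hbij := (Algebra.FormallyEtale.iff_comp_bijective (R := R) (A := B)).mp inferInstance (B := A) I hI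
  obtain ⟨ψ, hψ⟩ := hbij.2 g
  refine ⟨Spec.map (CommRingCat.ofHom ψ.toRingHom), ⟨?_, ?_⟩, fun n ⟨hn, hnb⟩ => ?_⟩
  · rw [← Spec.map_comp]; congr 1; ext x; exact congr($hψ x)
  · rw [← Spec.map_comp]; congr 1; ext r; exact ψ.commutes r
  · obtain ⟨ν, rfl⟩ := Spec.map_surjective n
    rw [← Spec.map_comp] at hn hnb
    replace hn := Spec.map_injective hn
    replace hnb := Spec.map_injective hnb
    have : (⟨ν.hom, fun r => congr($(hnb).hom r)⟩ : B →ₐ[R] A) = ψ := by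
      refine hbij.1 (hψ ▸ AlgHom.ext fun x => ?_)
      exact congr($(hn).hom x)
    rw [← this]
    rfl

/-- Unique lifting along a fixed morphism. -/
def UniqueLift {T T' : Scheme.{u}} (t : T ⟶ T') (f : X ⟶ Y) (a : T ⟶ X) (b : T' ⟶ Y) : Prop :=
  ∃! l : T' ⟶ X, t ≫ l = a ∧ l ≫ f = b

/-- Unique lifting glues on the target of the thickening. -/
theorem uniqueLift_glue {T T' : Scheme.{u}} (t : T ⟶ T') (f : X ⟶ Y) (a : T ⟶ X) (b : T' ⟶ Y)
    (h : ∀ (W₀ : T'.Opens), ∀ x ∈ W₀, ∃ W : T'.Opens, x ∈ W ∧ W ≤ W₀ ∧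
      UniqueLift (t ∣_ W) f ((t ⁻¹ᵁ W).ι ≫ a) (W.ι ≫ b)) :
    UniqueLift t f a b := by
  choose W hxW hle hW using h
  let W' : T' → T'.Opens := fun x => W ⊤ x trivial
  have hres : ∀ {W₁ W₂ : T'.Opens} (hle : W₁ ≤ W₂) (l : (W₂ : Scheme.{u}) ⟶ X),
      (t ∣_ W₂) ≫ l = (t ⁻¹ᵁ W₂).ι ≫ a → (t ∣_ W₁) ≫ T'.homOfLE hle ≫ l = (t ⁻¹ᵁ W₁).ι ≫ a := by
    intro W₁ W₂ hle l hl
    have : (t ∣_ W₁) ≫ T'.homOfLE hle = T.homOfLE (t.preimage_mono hle) ≫ (t ∣_ W₂) := by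
      rw [← cancel_mono W₂.ι, Category.assoc, Category.assoc, Scheme.homOfLE_ι, morphismRestrict_ι,
        morphismRestrict_ι, Scheme.homOfLE_ι_assoc]
    rw [reassoc_of% this, hl, Scheme.homOfLE_ι_assoc]
  have huniq : ∀ l₁ l₂ : T' ⟶ X, t ≫ l₁ = a ∧ l₁ ≫ f = b → t ≫ l₂ = a ∧ l₂ ≫ f = b → l₁ = l₂ := by
    intro l₁ l₂ h₁ h₂
    let 𝒰 := T'.openCoverOfIsOpenCover W' (top_le_iff.mp fun x _ =>
      TopologicalSpace.Opens.mem_iSup.mpr ⟨x, hxW ⊤ x trivial⟩)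
    refine Scheme.Cover.hom_ext 𝒰 _ _ fun x => ?_
    show (W' x).ι ≫ l₁ = (W' x).ι ≫ l₂
    exact (hW ⊤ x trivial).unique ⟨by rw [morphismRestrict_ι_assoc, h₁.1], by rw [Category.assoc, h₁.2]⟩
      ⟨by rw [morphismRestrict_ι_assoc, h₂.1], by rw [Category.assoc, h₂.2]⟩
  let m : ∀ x : T', (W' x : Scheme.{u}) ⟶ X := fun x => (hW ⊤ x trivial).choose
  have hm : ∀ x, (t ∣_ W' x) ≫ m x = (t ⁻¹ᵁ W' x).ι ≫ a ∧ m x ≫ f = (W' x).ι ≫ b :=
    fun x => (hW ⊤ x trivial).choose_spec.1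
  have hov : ∀ x y, T'.homOfLE (inf_le_left : W' x ⊓ W' y ≤ W' x) ≫ m x =
      T'.homOfLE (inf_le_right : W' x ⊓ W' y ≤ W' y) ≫ m y := by
    intro x y
    let W₀ := W' x ⊓ W' y
    let U : W₀.toScheme → T'.Opens := fun z => W W₀ z.1 z.2
    let 𝒰 := (W₀ : Scheme.{u}).openCoverOfIsOpenCover (fun z => W₀.ι ⁻¹ᵁ U z) (top_le_iff.mp fun z _ =>
      TopologicalSpace.Opens.mem_iSup.mpr ⟨z, hxW W₀ z.1 z.2⟩)
    refine Scheme.Cover.hom_ext 𝒰 _ _ fun z => ?_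
    show (W₀.ι ⁻¹ᵁ U z).ι ≫ _ = (W₀.ι ⁻¹ᵁ U z).ι ≫ _
    have hz : U z ≤ W₀ := hle W₀ z.1 z.2
    have e : (W₀.ι ⁻¹ᵁ U z).ι = (W₀.ι ∣_ U z) ≫ T'.homOfLE hz := by
      rw [← cancel_mono W₀.ι, Category.assoc, Scheme.homOfLE_ι, morphismRestrict_ι]
    rw [e, Category.assoc, Category.assoc, Scheme.homOfLE_homOfLE_assoc, Scheme.homOfLE_homOfLE_assoc]
    congr 1
    exact (hW W₀ z.1 z.2).unique ⟨hres _ _ (hm x).1, by rw [Category.assoc, (hm x).2, Scheme.homOfLE_ι_assoc]⟩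
      ⟨hres _ _ (hm y).1, by rw [Category.assoc, (hm y).2, Scheme.homOfLE_ι_assoc]⟩
  let 𝒲 := T'.openCoverOfIsOpenCover W' (top_le_iff.mp fun x _ =>
    TopologicalSpace.Opens.mem_iSup.mpr ⟨x, hxW ⊤ x trivial⟩)
  let l : T' ⟶ X := Scheme.Cover.glueMorphisms 𝒲 m fun x y => by
    show pullback.fst (W' x).ι (W' y).ι ≫ m x = pullback.snd (W' x).ι (W' y).ι ≫ m y
    let k : pullback (W' x).ι (W' y).ι ⟶ (W' x ⊓ W' y : T'.Opens) :=
      IsOpenImmersion.lift (W' x ⊓ W' y).ι (pullback.fst (W' x).ι (W' y).ι ≫ (W' x).ι) (by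
        rw [Scheme.Opens.range_ι]
        rintro _ ⟨p, rfl⟩
        refine ⟨(pullback.fst (W' x).ι (W' y).ι p).2, ?_⟩
        rw [pullback.condition]
        exact (pullback.snd (W' x).ι (W' y).ι p).2)
    have hk : k ≫ (W' x ⊓ W' y).ι = pullback.fst (W' x).ι (W' y).ι ≫ (W' x).ι :=
      IsOpenImmersion.lift_fac _ _ _
    have h1 : k ≫ T'.homOfLE inf_le_left = pullback.fst (W' x).ι (W' y).ι := by
      rw [← cancel_mono (W' x).ι, Category.assoc, Scheme.homOfLE_ι, hk]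
    have h2 : k ≫ T'.homOfLE inf_le_right = pullback.snd (W' x).ι (W' y).ι := by
      rw [← cancel_mono (W' y).ι, Category.assoc, Scheme.homOfLE_ι, hk, pullback.condition]
    rw [← h1, ← h2, Category.assoc, Category.assoc, hov x y]
  have hl : ∀ x, (W' x).ι ≫ l = m x := Scheme.Cover.ι_glueMorphisms 𝒲 _ _
  refine ⟨l, ⟨?_, ?_⟩, fun n hn => huniq n l hn ⟨?_, ?_⟩⟩
  iterate 2
    · let 𝒰 := T.openCoverOfIsOpenCover (fun x => t ⁻¹ᵁ W' x) (top_le_iff.mp fun z _ =>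
        TopologicalSpace.Opens.mem_iSup.mpr ⟨t z, hxW ⊤ (t z) trivial⟩)
      refine Scheme.Cover.hom_ext 𝒰 _ _ fun x => ?_
      show (t ⁻¹ᵁ W' x).ι ≫ t ≫ l = (t ⁻¹ᵁ W' x).ι ≫ a
      rw [← morphismRestrict_ι_assoc]
      exact (congrArg (_ ≫ ·) (hl x)).trans (hm x).1
    · refine Scheme.Cover.hom_ext 𝒲 _ _ fun x => ?_
      show (W' x).ι ≫ l ≫ f = (W' x).ι ≫ b
      rw [reassoc_of% (hl x), (hm x).2]

/-- Unique lifting along the restriction of a first order thickening to an affine open, through an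
open immersion of the target. -/
theorem uniqueLift_affine {T T' : Scheme.{u}} (t : T ⟶ T') [IsClosedImmersion t] [Surjective t]
    (ht : t.ker * t.ker = ⊥) {f : X ⟶ Y} {U V : Scheme.{u}} (j : U ⟶ X) (k : V ⟶ Y) [IsOpenImmersion j]
    [IsOpenImmersion k] (g : U ⟶ V) (hg : g ≫ k = j ≫ f) (hE : MoreMor.IsFormallyEtaleHom g)
    (W : T'.Opens) (hW : IsAffineOpen W) (a : T ⟶ X) (b : T' ⟶ Y) (w : t ≫ b = a ≫ f)
    (ha : ∀ z ∈ t ⁻¹ᵁ W, a z ∈ Set.range j) (hb : ∀ x ∈ W, b x ∈ Set.range k) :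
    UniqueLift (t ∣_ W) f ((t ⁻¹ᵁ W).ι ≫ a) (W.ι ≫ b) := by
  have hW' : IsAffineOpen (t ⁻¹ᵁ W) := hW.preimage t
  let I := t.ker.ideal ⟨W, hW⟩
  have hI : I ^ 2 = ⊥ := by
    rw [pow_two]
    have := congrArg (fun J : T'.IdealSheafData => J.ideal ⟨W, hW⟩) ht
    simpa [I, -Scheme.Hom.ker_apply] using this
  have hker : RingHom.ker (t.app W).hom = I := (Scheme.Hom.ker_apply t ⟨W, hW⟩).symm
  let e : (Γ(T', W) ⧸ I) ≃+* Γ(T, t ⁻¹ᵁ W) := (Ideal.quotEquivOfEq hker.symm).trans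
    (RingHom.quotientKerEquivOfSurjective (t.app_surjective W hW))
  let q := Spec.map (CommRingCat.ofHom (Ideal.Quotient.mk I))
  let ee : (t ⁻¹ᵁ W : Scheme.{u}) ≅ Spec (CommRingCat.of (Γ(T', W) ⧸ I)) :=
    hW'.isoSpec ≪≫ (Scheme.Spec.mapIso e.toCommRingCatIso.op)
  have hee : ee.hom ≫ q ≫ hW.fromSpec = (t ⁻¹ᵁ W).ι ≫ t := by
    have h1 : t.app W = CommRingCat.ofHom (Ideal.Quotient.mk I) ≫ e.toCommRingCatIso.hom := rfl
    have h2 : Spec.map (t.app W) ≫ hW.fromSpec = hW'.fromSpec ≫ t := by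
      rw [Scheme.Hom.app_eq_appLE]
      exact IsAffineOpen.SpecMap_appLE_fromSpec t hW hW' _
    show (hW'.isoSpec.hom ≫ Spec.map e.toCommRingCatIso.hom) ≫ q ≫ hW.fromSpec = _
    rw [Category.assoc, ← Category.assoc (Spec.map e.toCommRingCatIso.hom), ← Spec.map_comp, ← h1, h2,
      IsAffineOpen.isoSpec_hom_fromSpec_assoc]
  let a₀ : Spec (CommRingCat.of (Γ(T', W) ⧸ I)) ⟶ U :=
    IsOpenImmersion.lift j (ee.inv ≫ (t ⁻¹ᵁ W).ι ≫ a) (by
      rintro _ ⟨z, rfl⟩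
      exact ha _ (ee.inv z).2)
  have ha₀ : a₀ ≫ j = ee.inv ≫ (t ⁻¹ᵁ W).ι ≫ a := IsOpenImmersion.lift_fac _ _ _
  let b₀ : Spec Γ(T', W) ⟶ V := IsOpenImmersion.lift k (hW.fromSpec ≫ b) (by
    rintro _ ⟨z, rfl⟩
    refine hb _ ?_
    have := Set.mem_range_self (f := hW.fromSpec) z
    rwa [hW.range_fromSpec] at this)
  have hb₀ : b₀ ≫ k = hW.fromSpec ≫ b := IsOpenImmersion.lift_fac _ _ _
  have hq : q ≫ hW.fromSpec = ee.inv ≫ (t ⁻¹ᵁ W).ι ≫ t := by rw [← hee, Iso.inv_hom_id_assoc]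
  obtain ⟨l, ⟨hl, hlg⟩, hu⟩ := hE Γ(T', W) I hI a₀ b₀ (by
    rw [← cancel_mono k]
    show (q ≫ b₀) ≫ k = _
    rw [Category.assoc, Category.assoc, hb₀, hg, reassoc_of% hq, w, reassoc_of% ha₀])
  have htW : (t ∣_ W) ≫ hW.isoSpec.hom = ee.hom ≫ q := by
    rw [← cancel_mono hW.fromSpec, Category.assoc, Category.assoc, hee,
      IsAffineOpen.isoSpec_hom_fromSpec, morphismRestrict_ι]
  refine ⟨hW.isoSpec.hom ≫ l ≫ j, ⟨?_, ?_⟩, fun n ⟨hn, hnb⟩ => ?_⟩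
  · rw [reassoc_of% htW, reassoc_of% hl, ha₀, Iso.hom_inv_id_assoc]
  · rw [Category.assoc, Category.assoc, ← hg, reassoc_of% hlg, hb₀,
      IsAffineOpen.isoSpec_hom_fromSpec_assoc]
  · have hr : Set.range n ⊆ Set.range j := by
      haveI : Surjective (t ∣_ W) := IsZariskiLocalAtTarget.restrict (P := @Surjective) inferInstance W
      refine range_subset_of_surjective (t ∣_ W) hn ?_
      rintro _ ⟨z, rfl⟩
      exact ha _ z.2
    obtain ⟨n', rfl⟩ : ∃ n', n' ≫ j = n := ⟨_, IsOpenImmersion.lift_fac j n hr⟩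
    rw [← hu (hW.isoSpec.inv ≫ n') ⟨?_, ?_⟩, Category.assoc, Iso.hom_inv_id_assoc]
    · rw [← cancel_mono j, ← cancel_epi ee.hom, Category.assoc, Category.assoc, ha₀,
        Iso.hom_inv_id_assoc, ← reassoc_of% htW, Iso.hom_inv_id_assoc]
      exact hn
    · rw [← cancel_mono k, Category.assoc, Category.assoc, hg, hb₀,
        show n' ≫ j ≫ f = W.ι ≫ b from (Category.assoc _ _ _).symm.trans hnb,
        ← Category.assoc, IsAffineOpen.isoSpec_inv_ι]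

/-- Formal étaleness gives unique lifting against all first order thickenings. -/
theorem uniqueLift_of_thickening {f : X ⟶ Y} (hf : MoreMor.IsFormallyEtaleHom f) {T T' : Scheme.{u}}
    (t : T ⟶ T') [IsClosedImmersion t] [Surjective t] (ht : t.ker * t.ker = ⊥) (a : T ⟶ X) (b : T' ⟶ Y)
    (w : t ≫ b = a ≫ f) : UniqueLift t f a b := by
  refine uniqueLift_glue t f a b fun W₀ x hx => ?_
  obtain ⟨_, ⟨W, hW, rfl⟩, hxW, hle⟩ :=
    T'.isBasis_affineOpens.exists_subset_of_mem_open hx W₀.2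
  exact ⟨W, hxW, hle, uniqueLift_affine t ht (𝟙 X) (𝟙 Y) f (by simp) hf W hW a b w
    (fun z _ => ⟨_, rfl⟩) fun z _ => ⟨_, rfl⟩⟩

/-- Formal étaleness is local on source and target. -/
theorem isFormallyEtaleHom_of_local (f : X ⟶ Y)
    (h : ∀ x, ∃ (U : X.Opens) (V : Y.Opens) (e : U ≤ f ⁻¹ᵁ V), x ∈ U ∧
      MoreMor.IsFormallyEtaleHom (f.resLE V U e)) : MoreMor.IsFormallyEtaleHom f := by
  intro A _ I hI a b w
  haveI := surjective_specMap_quotient hI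
  let t := Spec.map (CommRingCat.ofHom (Ideal.Quotient.mk I))
  haveI : IsClosedImmersion t := IsClosedImmersion.spec_of_surjective _ Ideal.Quotient.mk_surjective
  have hker : t.ker.ideal ⟨⊤, isAffineOpen_top _⟩ =
      I.map (Scheme.ΓSpecIso (CommRingCat.of A)).inv.hom := by
    rw [Scheme.Hom.ker_apply]
    show RingHom.ker t.appTop.hom = _
    have h0 : t.appTop = (Scheme.ΓSpecIso (CommRingCat.of A)).hom ≫
        CommRingCat.ofHom (Ideal.Quotient.mk I) ≫ (Scheme.ΓSpecIso (CommRingCat.of (A ⧸ I))).inv := by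
      rw [← Category.assoc]
      exact (Iso.eq_comp_inv _).mpr (Scheme.ΓSpecIso_naturality _)
    rw [h0, CommRingCat.hom_comp, ← RingHom.comap_ker]
    have h1 : RingHom.ker (Scheme.ΓSpecIso (CommRingCat.of (A ⧸ I))).inv.hom = ⊥ :=
      RingHom.ker_coe_equiv (Scheme.ΓSpecIso (CommRingCat.of (A ⧸ I))).symm.commRingCatIsoToRingEquiv
    rw [CommRingCat.hom_comp, ← RingHom.comap_ker, h1, ← RingHom.ker_eq_comap_bot]
    show Ideal.comap _ (RingHom.ker (Ideal.Quotient.mk I)) = _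
    rw [Ideal.mk_ker]
    exact (Ideal.map_comap_of_equiv (Scheme.ΓSpecIso (CommRingCat.of A)).symm.commRingCatIsoToRingEquiv).symm
  have ht : t.ker * t.ker = ⊥ := by
    apply Scheme.IdealSheafData.ext_of_isAffine
    rw [Scheme.IdealSheafData.ideal_mul, Pi.mul_apply, hker, ← Ideal.map_mul, ← pow_two, hI,
      Ideal.map_bot, Scheme.IdealSheafData.ideal_bot, Pi.bot_apply]
  refine uniqueLift_glue t f a b fun W₀ x hx => ?_
  obtain ⟨z, hz⟩ := t.surjective x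
  obtain ⟨U, V, e, hxU, hE⟩ := h (a z)
  let N : Set (Spec (CommRingCat.of A)) := (t '' (a ⁻¹' (U : Set X))ᶜ)ᶜ
  have hN : IsOpen N := (t.isClosedEmbedding.isClosedMap _
    (U.2.preimage a.continuous).isClosed_compl).isOpen_compl
  have hbV : b x ∈ V := by
    have h1 : (t ≫ b) z = (a ≫ f) z := by rw [w]
    have h2 : b x = f (a z) := by rw [← hz]; exact h1
    rw [h2]
    exact e hxU
  obtain ⟨_, ⟨W, hW, rfl⟩, hxW, hle⟩ :=
    (Spec (CommRingCat.of A)).isBasis_affineOpens.exists_subset_of_mem_open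
      (show x ∈ (W₀ : Set _) ∩ N ∩ b ⁻¹' V from ⟨⟨hx, by
        rintro ⟨z', hz', hzz⟩
        exact hz' (t.isClosedEmbedding.injective (hzz.trans hz.symm) ▸ hxU)⟩, hbV⟩)
      ((W₀.2.inter hN).inter (V.2.preimage b.continuous))
  refine ⟨W, hxW, fun y hy => (hle hy).1.1, uniqueLift_affine t ht U.ι V.ι (f.resLE V U e)
    (Scheme.Hom.resLE_comp_ι _ _) hE W hW a b w (fun z' hz' => ?_) fun y hy => ?_⟩
  · rw [Scheme.Opens.range_ι]
    by_contra hn
    exact (hle hz').1.2 ⟨z', hn, rfl⟩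
  · rw [Scheme.Opens.range_ι]
    exact (hle hy).2

end GrothLib.FormalLift
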